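import Groth.Agent.FibDesc.K781.Defs2
import Groth.Agent.FibDesc.K781.Extra

/-!
# Cech diagrams

`IsCech τ`: the augmented simplicial object `τ` is the Cech nerve of its augmentation.
-/

set_option autoImplicit false
set_option backward.isDefEq.respectTransparency false
set_option backward.isDefEq.respectTransparency.types false

universe v u

open CategoryTheory CategoryTheory.Limits ComplexShape Opposite TopologicalSpace K781.Desc

namespace K781.Cech

variable {C : Type u} [Category.{v} C]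

lemma vtx_comp {m n : ℕ} (i : Fin (m + 1)) (g : SimplexCategory.mk m ⟶ SimplexCategory.mk n) :
    vtx m i ≫ WithInitial.incl.map g = vtx n (g.toOrderHom i) := by
  rw [← Functor.map_comp, SimplexCategory.const_comp]

lemma const_zero (i : Fin 1) :
    SimplexCategory.const (SimplexCategory.mk 0) (SimplexCategory.mk 0) i = 𝟙 _ :=
  SimplexCategory.Hom.ext _ _ (by ext x : 2; exact Subsingleton.elim (α := Fin 1) _ _)

lemma vtx_zero (i : Fin 1) : vtx 0 i = 𝟙 (ob 0) :=
  (congrArg WithInitial.incl.map (const_zero i)).trans (WithInitial.incl.map_id _)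

variable (τ : Dpᵒᵖ ⥤ C)

@[reassoc]
lemma map_vtx_init (n : ℕ) (i : Fin (n + 1)) :
    τ.map (vtx n i).op ≫ τ.map (init (ob 0)).op = τ.map (init (ob n)).op := by
  rw [← τ.map_comp, ← op_comp, init_comp]

@[reassoc]
lemma map_incl_init {m n : ℕ} (g : SimplexCategory.mk m ⟶ SimplexCategory.mk n) :
    τ.map (WithInitial.incl.map g).op ≫ τ.map (init (ob m)).op = τ.map (init (ob n)).op := by
  rw [← τ.map_comp, ← op_comp]
  congr 2

@[reassoc]
lemma map_incl_vtx {m n : ℕ} (g : SimplexCategory.mk m ⟶ SimplexCategory.mk n) (i : Fin (m + 1)) :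
    τ.map (WithInitial.incl.map g).op ≫ τ.map (vtx m i).op = τ.map (vtx n (g.toOrderHom i)).op := by
  rw [← τ.map_comp, ← op_comp, vtx_comp]

@[reassoc]
lemma map_vtx_zero (i : Fin 1) : τ.map (vtx 0 i).op = 𝟙 (τ.obj (op (ob 0))) := by
  rw [vtx_zero]
  exact τ.map_id _

section nerve

variable [∀ (n : ℕ) (f : Arrow C), HasWidePullback f.right (fun _ : Fin (n + 1) => f.left) fun _ => f.hom]
  {X T : C} (f : X ⟶ T)

lemma nerve_star : (nerve f).obj (op .star) = T := rfl

lemma nerve_ob (n : ℕ) : (nerve f).obj (op (ob n)) =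
    widePullback (Arrow.mk f).right (fun _ : Fin (n + 1) => (Arrow.mk f).left) (fun _ => (Arrow.mk f).hom) := rfl

lemma nerve_init (n : ℕ) : (nerve f).map (init (ob n)).op =
    WidePullback.base (fun _ : Fin (n + 1) => (Arrow.mk f).hom) := rfl

/-- The projections. -/
noncomputable abbrev π (n : ℕ) (i : Fin (n + 1)) : (nerve f).obj (op (ob n)) ⟶ X :=
  WidePullback.π (fun _ : Fin (n + 1) => (Arrow.mk f).hom) i

@[reassoc]
lemma nerve_map_π {m n : ℕ} (g : SimplexCategory.mk m ⟶ SimplexCategory.mk n) (i : Fin (m + 1)) :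
    (nerve f).map (WithInitial.incl.map g).op ≫ π f m i = π f n (g.toOrderHom i) :=
  WidePullback.lift_π _ _ _ _ _

@[reassoc]
lemma π_comp (n : ℕ) (i : Fin (n + 1)) : π f n i ≫ f = (nerve f).map (init (ob n)).op :=
  WidePullback.π_arrow (fun _ : Fin (n + 1) => (Arrow.mk f).hom) i

lemma nerve_hom_ext {n : ℕ} {Z : C} {a b : Z ⟶ (nerve f).obj (op (ob n))} 
    (h : ∀ i, a ≫ π f n i = b ≫ π f n i) : a = b := by
  refine WidePullback.hom_ext _ _ _ h ?_
  erw [← nerve_init, ← π_comp f n 0, reassoc_of% (h 0)]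

/-- The degree zero part of the nerve of `f`. -/
noncomputable def nerveZero : (nerve f).obj (op (ob 0)) ≅ X where
  hom := π f 0 0
  inv := WidePullback.lift f (fun _ => 𝟙 X) (by simp)
  hom_inv_id := by
    apply nerve_hom_ext
    intro i
    obtain rfl : i = 0 := Fin.fin_one_eq_zero i
    rw [Category.assoc]
    erw [WidePullback.lift_π, Category.comp_id, Category.id_comp]
  inv_hom_id := WidePullback.lift_π _ _ _ _ _

@[reassoc (attr := simp)]
lemma nerveZero_hom : (nerveZero f).hom ≫ f = (nerve f).map (init (ob 0)).op := π_comp f 0 0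

@[reassoc (attr := simp)]
lemma nerveZero_inv : (nerveZero f).inv ≫ (nerve f).map (init (ob 0)).op = f := by
  rw [← nerveZero_hom, Iso.inv_hom_id_assoc]

@[reassoc]
lemma nerve_vtx (n : ℕ) (i : Fin (n + 1)) : (nerve f).map (vtx n i).op ≫ (nerveZero f).hom = π f n i :=
  nerve_map_π f _ _

theorem isCech_nerve : IsCech (nerve f) where
  hom_ext n Z a b h := by
    apply nerve_hom_ext
    intro i
    rw [← nerve_vtx, reassoc_of% (h i)]
  exists_lift n Z a h := by
    have h' : ∀ i, (a i ≫ (nerveZero f).hom) ≫ f = (a 0 ≫ (nerveZero f).hom) ≫ f := by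
      intro i
      rw [Category.assoc, Category.assoc, nerveZero_hom]
      exact h i 0
    refine ⟨WidePullback.lift ((a 0 ≫ (nerveZero f).hom) ≫ f) (fun i => a i ≫ (nerveZero f).hom) h', fun i => ?_⟩
    rw [← cancel_mono (nerveZero f).hom, Category.assoc, nerve_vtx]
    exact WidePullback.lift_π _ _ _ _ _

end nerve

section hom

variable {τ} {τ' : Dpᵒᵖ ⥤ C}

theorem hom_ext (h' : IsCech τ') (φ ψ : τ ⟶ τ') (h₀ : φ.app (op (ob 0)) = ψ.app (op (ob 0)))
    (h₁ : φ.app (op .star) = ψ.app (op .star)) : φ = ψ := by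
  ext ⟨x⟩
  rcases x with n | _
  · apply h'.hom_ext n.len
    intro i
    rw [← NatTrans.naturality, ← NatTrans.naturality, h₀]
  · exact h₁

theorem exists_hom (h' : IsCech τ') (a : τ.obj (op (ob 0)) ⟶ τ'.obj (op (ob 0)))
    (b : τ.obj (op .star) ⟶ τ'.obj (op .star))
    (w : τ.map (init (ob 0)).op ≫ b = a ≫ τ'.map (init (ob 0)).op) :
    ∃ φ : τ ⟶ τ', φ.app (op (ob 0)) = a ∧ φ.app (op .star) = b := by
  have hL (n : ℕ) : ∃ L : τ.obj (op (ob n)) ⟶ τ'.obj (op (ob n)),
      ∀ i, L ≫ τ'.map (vtx n i).op = τ.map (vtx n i).op ≫ a :=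
    h'.exists_lift n _ (fun i => τ.map (vtx n i).op ≫ a) fun i j => by
      rw [Category.assoc, Category.assoc, ← w, map_vtx_init_assoc, map_vtx_init_assoc]
  choose L hL using hL
  refine ⟨⟨fun x => match x with
    | ⟨.of n⟩ => L n.len
    | ⟨.star⟩ => b, ?_⟩, ?_, rfl⟩
  · rintro ⟨x⟩ ⟨y⟩ ⟨f⟩
    rcases x with n | _ <;> rcases y with m | _
    · apply h'.hom_ext m.len
      intro i
      change (τ.map (WithInitial.incl.map (WithInitial.down f)).op ≫ L m.len) ≫ _ = 
        (L n.len ≫ τ'.map (WithInitial.incl.map (WithInitial.down f)).op) ≫ _ 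
      rw [Category.assoc, hL, Category.assoc]
      erw [map_incl_vtx, map_incl_vtx_assoc, hL]
    · change τ.map (init (ob n.len)).op ≫ b = L n.len ≫ τ'.map (init (ob n.len)).op
      rw [← map_vtx_init τ' n.len 0, reassoc_of% (hL n.len 0), ← w, map_vtx_init_assoc]
    · exact PEmpty.elim f
    · change τ.map (𝟙 _) ≫ b = b ≫ τ'.map (𝟙 _)
      rw [τ.map_id, τ'.map_id, Category.id_comp, Category.comp_id]
  · change L 0 = a
    have := hL 0 0
    rw [map_vtx_zero, map_vtx_zero] at this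
    exact (Category.comp_id _).symm.trans (this.trans (Category.id_comp _))

theorem exists_iso (h : IsCech τ) (h' : IsCech τ') (a : τ.obj (op (ob 0)) ≅ τ'.obj (op (ob 0)))
    (b : τ.obj (op .star) ≅ τ'.obj (op .star))
    (w : τ.map (init (ob 0)).op ≫ b.hom = a.hom ≫ τ'.map (init (ob 0)).op) :
    ∃ φ : τ ≅ τ', φ.hom.app (op (ob 0)) = a.hom ∧ φ.hom.app (op .star) = b.hom := by
  obtain ⟨φ, h₀, h₁⟩ := exists_hom h' a.hom b.hom w
  obtain ⟨ψ, h₀', h₁'⟩ := exists_hom h a.inv b.inv (by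
    rw [Iso.comp_inv_eq, Category.assoc, w, Iso.inv_hom_id_assoc])
  refine ⟨⟨φ, ψ, hom_ext h _ _ ?_ ?_, hom_ext h' _ _ ?_ ?_⟩, h₀, h₁⟩
  · rw [NatTrans.comp_app, h₀, h₀', Iso.hom_inv_id]; rfl
  · rw [NatTrans.comp_app, h₁, h₁', Iso.hom_inv_id]; rfl
  · rw [NatTrans.comp_app, h₀, h₀', Iso.inv_hom_id]; rfl
  · rw [NatTrans.comp_app, h₁, h₁', Iso.inv_hom_id]; rfl

end hom



theorem isCech_over {S : C} (τ : Dpᵒᵖ ⥤ Over S) : IsCech τ ↔ IsCech (τ ⋙ Over.forget S) := by
  constructor
  · intro h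
    refine ⟨fun n Z a b hab => ?_, fun n Z a ha => ?_⟩
    · have h1 : (τ.map (vtx n 0).op).left ≫ (τ.obj (op (ob 0))).hom = (τ.obj (op (ob n))).hom :=
        Over.w (τ.map (vtx n 0).op)
      have h2 : b ≫ (τ.obj (op (ob n))).hom = a ≫ (τ.obj (op (ob n))).hom := by
        rw [← h1]
        exact (reassoc_of% (hab 0).symm) _
      exact congrArg CommaMorphism.left (h.hom_ext n (Over.mk (a ≫ (τ.obj (op (ob n))).hom)) (Over.homMk a rfl)
        (Over.homMk b h2) fun i => by ext; exact hab i)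
    · have h1 : (τ.map (init (ob 0)).op).left ≫ (τ.obj (op .star)).hom = (τ.obj (op (ob 0))).hom :=
        Over.w (τ.map (init (ob 0)).op)
      have h2 (i) : a i ≫ (τ.obj (op (ob 0))).hom = a 0 ≫ (τ.obj (op (ob 0))).hom := by
        rw [← h1]
        exact (reassoc_of% (ha i 0)) _
      obtain ⟨b, hb⟩ := h.exists_lift n (Over.mk (a 0 ≫ (τ.obj (op (ob 0))).hom)) 
        (fun i => Over.homMk (a i) (h2 i)) fun i j => by ext; exact ha i j
      exact ⟨b.left, fun i => congrArg CommaMorphism.left (hb i)⟩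
  · intro h
    refine ⟨fun n Z a b hab => ?_, fun n Z a ha => ?_⟩
    · ext
      exact h.hom_ext n _ _ _ fun i => congrArg CommaMorphism.left (hab i)
    · obtain ⟨b, hb⟩ := h.exists_lift n _ (fun i => (a i).left) fun i j => congrArg CommaMorphism.left (ha i j)
      have h1 : (τ.map (vtx n 0).op).left ≫ (τ.obj (op (ob 0))).hom = (τ.obj (op (ob n))).hom :=
        Over.w (τ.map (vtx n 0).op)
      refine ⟨Over.homMk b ?_, fun i => by ext; exact hb i⟩
      rw [← h1]
      have h2 := congrArg (· ≫ (τ.obj (op (ob 0))).hom) (hb 0)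
      exact (Category.assoc _ _ _).symm.trans (h2.trans (Over.w (a 0)))

theorem isCech_lift {S : C} (Y : Dpᵒᵖ ⥤ C) (h : IsCech Y) (π : Y.obj (op .star) ⟶ S) : IsCech (lift Y π) :=
  (isCech_over _).2 h

section baseChange

variable {τ} {τ' : Dpᵒᵖ ⥤ C}

theorem IsCech.baseChange (h : IsCech τ) (φ : τ' ⟶ τ)
    (hφ : ∀ x : Dp, IsPullback (φ.app (op x)) (τ'.map (init x).op) (τ.map (init x).op) (φ.app (op .star))) :
    IsCech τ' where
  hom_ext n Z a b hab := by
    apply (hφ (ob n)).hom_ext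
    · apply h.hom_ext
      intro i
      rw [Category.assoc, Category.assoc, ← NatTrans.naturality, reassoc_of% (hab i)]
    · rw [← map_vtx_init τ' n 0, reassoc_of% (hab 0)]
  exists_lift n Z a ha := by
    obtain ⟨b', hb'⟩ := h.exists_lift n Z (fun i => a i ≫ φ.app (op (ob 0))) fun i j => by
      rw [Category.assoc, Category.assoc, ← NatTrans.naturality, reassoc_of% (ha i j)]
    obtain ⟨b, e1, e2⟩ : ∃ b : Z ⟶ τ'.obj (op (ob n)), b ≫ φ.app (op (ob n)) = b' ∧
        b ≫ τ'.map (init (ob n)).op = a 0 ≫ τ'.map (init (ob 0)).op :=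
      ⟨(hφ (ob n)).lift b' (a 0 ≫ τ'.map (init (ob 0)).op) (by
        rw [← map_vtx_init τ n 0, reassoc_of% (hb' 0), Category.assoc, NatTrans.naturality]),
        IsPullback.lift_fst _ _ _ _, IsPullback.lift_snd _ _ _ _⟩
    refine ⟨b, fun i => (hφ (ob 0)).hom_ext ?_ ?_⟩
    · rw [Category.assoc, NatTrans.naturality, reassoc_of% e1, hb']
    · rw [Category.assoc, map_vtx_init, e2, ha 0 i]

lemma bi_map_right [HasBinaryProducts C] (y : Dp) {x x' : Dpᵒᵖ} (f : x ⟶ x') :
    ((secR y).op ⋙ bi τ τ').map f = prod.map (τ.map f) (𝟙 (τ'.obj (op y))) :=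
  congrArg (prod.map (τ.map f)) (τ'.map_id (op y))

lemma bi_map_left [HasBinaryProducts C] (x : Dp) {y y' : Dpᵒᵖ} (f : y ⟶ y') :
    ((secL x).op ⋙ bi τ τ').map f = prod.map (𝟙 (τ.obj (op x))) (τ'.map f) :=
  congrArg (fun t => prod.map t (τ'.map f)) (τ.map_id (op x))

lemma prodR_ext [HasBinaryProducts C] (h : IsCech τ) (Y : C) (n : ℕ) (Z : C)
    (a b : Z ⟶ τ.obj (op (ob n)) ⨯ Y)
    (hab : ∀ i, a ≫ prod.map (τ.map (vtx n i).op) (𝟙 Y) = b ≫ prod.map (τ.map (vtx n i).op) (𝟙 Y)) : a = b := by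
  apply Limits.prod.hom_ext
  · apply h.hom_ext
    intro i
    have := congr($(hab i) ≫ prod.fst)
    simpa only [Category.assoc, prod.map_fst] using this
  · have := congr($(hab 0) ≫ prod.snd)
    simpa only [Category.assoc, prod.map_snd, Category.comp_id] using this

lemma prodR_lift [HasBinaryProducts C] (h : IsCech τ) (Y : C) (n : ℕ) (Z : C)
    (a : Fin (n + 1) → (Z ⟶ τ.obj (op (ob 0)) ⨯ Y))
    (ha : ∀ i j, a i ≫ prod.map (τ.map (init (ob 0)).op) (𝟙 Y) = a j ≫ prod.map (τ.map (init (ob 0)).op) (𝟙 Y)) :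
    ∃ b : Z ⟶ τ.obj (op (ob n)) ⨯ Y, ∀ i, b ≫ prod.map (τ.map (vtx n i).op) (𝟙 Y) = a i := by
  have h2 (i j) : a i ≫ prod.snd = a j ≫ prod.snd := by
    have := congr($(ha i j) ≫ prod.snd)
    simpa only [Category.assoc, prod.map_snd, Category.comp_id] using this
  obtain ⟨b, hb⟩ := h.exists_lift n Z (fun i => a i ≫ prod.fst) fun i j => by
    have := congr($(ha i j) ≫ prod.fst)
    simpa only [Category.assoc, prod.map_fst] using this
  refine ⟨prod.lift b (a 0 ≫ prod.snd), fun i => ?_⟩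
  rw [prod.lift_map]
  apply Limits.prod.hom_ext
  · rw [prod.lift_fst, hb]
  · rw [prod.lift_snd, Category.comp_id, h2 0 i]

lemma prodL_ext [HasBinaryProducts C] (h : IsCech τ) (Y : C) (n : ℕ) (Z : C)
    (a b : Z ⟶ Y ⨯ τ.obj (op (ob n)))
    (hab : ∀ i, a ≫ prod.map (𝟙 Y) (τ.map (vtx n i).op) = b ≫ prod.map (𝟙 Y) (τ.map (vtx n i).op)) : a = b := by
  apply Limits.prod.hom_ext
  · have := congr($(hab 0) ≫ prod.fst)
    simpa only [Category.assoc, prod.map_fst, Category.comp_id] using this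
  · apply h.hom_ext
    intro i
    have := congr($(hab i) ≫ prod.snd)
    simpa only [Category.assoc, prod.map_snd] using this

lemma prodL_lift [HasBinaryProducts C] (h : IsCech τ) (Y : C) (n : ℕ) (Z : C)
    (a : Fin (n + 1) → (Z ⟶ Y ⨯ τ.obj (op (ob 0))))
    (ha : ∀ i j, a i ≫ prod.map (𝟙 Y) (τ.map (init (ob 0)).op) = a j ≫ prod.map (𝟙 Y) (τ.map (init (ob 0)).op)) :
    ∃ b : Z ⟶ Y ⨯ τ.obj (op (ob n)), ∀ i, b ≫ prod.map (𝟙 Y) (τ.map (vtx n i).op) = a i := by
  have h2 (i j) : a i ≫ prod.fst = a j ≫ prod.fst := by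
    have := congr($(ha i j) ≫ prod.fst)
    simpa only [Category.assoc, prod.map_fst, Category.comp_id] using this
  obtain ⟨b, hb⟩ := h.exists_lift n Z (fun i => a i ≫ prod.snd) fun i j => by
    have := congr($(ha i j) ≫ prod.snd)
    simpa only [Category.assoc, prod.map_snd] using this
  refine ⟨prod.lift (a 0 ≫ prod.fst) b, fun i => ?_⟩
  rw [prod.lift_map]
  apply Limits.prod.hom_ext
  · rw [prod.lift_fst, Category.comp_id, h2 0 i]
  · rw [prod.lift_snd, hb]

theorem IsCech.prod_right [HasBinaryProducts C] (h : IsCech τ) (y : Dp) : IsCech ((secR y).op ⋙ bi τ τ') where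
  hom_ext n Z a b hab := by
    simp only [bi_map_right] at hab
    exact prodR_ext h _ n Z a b hab
  exists_lift n Z a ha := by
    simp only [bi_map_right] at ha ⊢
    exact prodR_lift h _ n Z a ha

theorem IsCech.prod_left [HasBinaryProducts C] (h : IsCech τ') (x : Dp) : IsCech ((secL x).op ⋙ bi τ τ') where
  hom_ext n Z a b hab := by
    simp only [bi_map_left] at hab
    exact prodL_ext h _ n Z a b hab
  exists_lift n Z a ha := by
    simp only [bi_map_left] at ha ⊢
    exact prodL_lift h _ n Z a ha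

end baseChange

section section_

variable {τ}

lemma exists_extra (h : IsCech τ) (s : τ.obj (op .star) ⟶ τ.obj (op (ob 0)))
    (hs : s ≫ τ.map (init (ob 0)).op = 𝟙 _) (n : ℕ) :
    ∃ b : τ.obj (op (ob n)) ⟶ τ.obj (op (ob (n + 1))),
      b ≫ τ.map (vtx (n + 1) 0).op = τ.map (init (ob n)).op ≫ s ∧
      ∀ i : Fin (n + 1), b ≫ τ.map (vtx (n + 1) i.succ).op = τ.map (vtx n i).op := by
  obtain ⟨b, hb⟩ := h.exists_lift (n + 1) (τ.obj (op (ob n)))
    (Fin.cons (τ.map (init (ob n)).op ≫ s) fun i => τ.map (vtx n i).op) (by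
      have key : ∀ i : Fin (n + 2), (Fin.cons (τ.map (init (ob n)).op ≫ s) (fun i => τ.map (vtx n i).op) :
          Fin (n + 2) → (τ.obj (op (ob n)) ⟶ τ.obj (op (ob 0)))) i ≫ τ.map (init (ob 0)).op =
          τ.map (init (ob n)).op := by
        intro i
        refine Fin.cases ?_ (fun i => ?_) i
        · rw [Fin.cons_zero, Category.assoc, hs, Category.comp_id]
        · rw [Fin.cons_succ, map_vtx_init]
      intro i j
      rw [key, key])
  exact ⟨b, hb 0, fun i => hb i.succ⟩

theorem xco_of_section (h : IsCech τ) (s : τ.obj (op .star) ⟶ τ.obj (op (ob 0)))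
    (hs : s ≫ τ.map (init (ob 0)).op = 𝟙 _) : Nonempty (XCo τ.rightOp) := by
  choose b hb0 hb using exists_extra h s hs
  refine ⟨⟨s.op, fun n => (b n).op, ?_, ?_, ?_, ?_⟩⟩
  · exact congrArg Quiver.Hom.op hs
  · refine congrArg Quiver.Hom.op (?_ : b 0 ≫ τ.map (WithInitial.incl.map (SimplexCategory.δ (1 : Fin 2))).op =
      τ.map (init (ob 0)).op ≫ s)
    apply h.hom_ext
    intro i
    obtain rfl : i = 0 := Fin.fin_one_eq_zero i
    rw [Category.assoc, map_incl_vtx, map_vtx_zero]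
    refine Eq.trans ?_ ((hb0 0).trans (Category.comp_id _).symm)
    congr 3
  · intro n
    refine congrArg Quiver.Hom.op (?_ : b n ≫ τ.map (WithInitial.incl.map (SimplexCategory.δ (0 : Fin (n + 2)))).op =
      𝟙 _)
    apply h.hom_ext
    intro i
    rw [Category.assoc, map_incl_vtx, Category.id_comp]
    exact hb n i
  · intro n i
    refine congrArg Quiver.Hom.op (?_ : b (n + 1) ≫ τ.map (WithInitial.incl.map (SimplexCategory.δ i.succ)).op =
      τ.map (WithInitial.incl.map (SimplexCategory.δ i)).op ≫ b n)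
    apply h.hom_ext
    intro j
    rw [Category.assoc, map_incl_vtx, Category.assoc]
    refine Fin.cases ?_ (fun j => ?_) j
    · rw [hb0, map_incl_init_assoc, ← hb0 (n + 1)]
      congr 3
    · rw [hb, map_incl_vtx, ← hb (n + 1)]
      congr 3
      exact congrArg (vtx (n + 1 + 1)) (Fin.succ_succAbove_succ i j)

end section_

section over

variable {S : C}

/-- The Cech nerve in `Over S`. -/
theorem exists_nerve_over_iso
    [∀ (n : ℕ) (f : Arrow C), HasWidePullback f.right (fun _ : Fin (n + 1) => f.left) fun _ => f.hom]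
    [∀ (n : ℕ) (f : Arrow (Over S)), HasWidePullback f.right (fun _ : Fin (n + 1) => f.left) fun _ => f.hom]
    {X T : Over S} (h : X ⟶ T) :
    ∃ φ : nerve h ≅ lift (nerve h.left) T.hom, 
      (φ.hom.app (op .star)).left = 𝟙 T.left ∧
      (φ.hom.app (op (ob 0))).left = (nerveZero h).hom.left ≫ (nerveZero h.left).inv := by
  let a : X ≅ (lift (nerve h.left) T.hom).obj (op (ob 0)) :=
    Over.isoMk (nerveZero h.left).symm (by
      change (nerveZero h.left).inv ≫ (nerve h.left).map (init (ob 0)).op ≫ T.hom = X.hom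
      rw [nerveZero_inv_assoc, Over.w])
  let b : T ≅ (lift (nerve h.left) T.hom).obj (op .star) :=
    Over.isoMk (Iso.refl _) (by
      change 𝟙 T.left ≫ (nerve h.left).map (𝟙 (op .star)) ≫ (show (nerve h.left).obj (op .star) ⟶ S from T.hom) = T.hom
      rw [Category.id_comp]
      exact (congrArg (· ≫ (show (nerve h.left).obj (op .star) ⟶ S from T.hom))
        ((nerve h.left).map_id (op .star))).trans (Category.id_comp _))
  obtain ⟨φ, h₀, h₁⟩ := exists_iso (isCech_nerve h) (isCech_lift _ (isCech_nerve h.left) T.hom) 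
    (nerveZero h ≪≫ a) b (by
      ext
      have h2 : ((nerve h).map (init (ob 0)).op).left ≫ 𝟙 _ = 
        ((nerveZero h).hom.left ≫ (nerveZero h.left).inv) ≫ (nerve h.left).map (init (ob 0)).op := by
        rw [Category.assoc, nerveZero_inv]
        exact (Category.comp_id _).trans (congrArg CommaMorphism.left (nerveZero_hom h)).symm
      exact h2)
  exact ⟨φ, by rw [h₁]; rfl, by rw [h₀]; rfl⟩

end over

section spaces

variable {S : TopCat.{u}}

/-- The Cech nerve in `Over S`, `S` a topological space. -/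
theorem exists_nerve_top_iso {X T : Over S} (h : X ⟶ T) :
    ∃ φ : nerve h ≅ lift (FibDesc.cechAug h.left) T.hom, 
      (φ.hom.app (op .star)).left = 𝟙 T.left ∧
      (φ.hom.app (op (ob 0))).left = (nerveZero h).hom.left ≫ (nerveZero h.left).inv := 
  exists_nerve_over_iso h

end spaces

end K781.Cech
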